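import Groth.Agent.QuotStLib.Torsor

/-! The canonical map to a quotient stack is represented by torsors. -/

set_option autoImplicit false
set_option linter.all false
set_option backward.isDefEq.respectTransparency false
set_option backward.isDefEq.respectTransparency.types false

noncomputable section

universe u

open CategoryTheory CategoryTheory.Limits MonoidalCategory CartesianMonoidalCategory MonObj GrpObj AlgebraicGeometry
open Opposite FibCat FibLib

namespace QuotStLib

variable {S : Scheme.{u}} {G X : Over S} [GrpObj G] {K : Precoverage Scheme.{u}} [K.HasIsos]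
  {aX : AlgGrp.Action G X}

/-- Morphisms to the same base factor uniquely. -/
lemma hom_cancel {B C A : AlgSt.QuotObj K G aX} (h : C ⟶ A) (k k' : B ⟶ C) (hb : k.base = k'.base)
    (he : k ≫ h = k' ≫ h) : k = k' := by
  refine AlgSt.QuotObj.hom_ext hb (h.cart.hom_ext ?_ ?_)
  · exact congrArg AlgSt.QuotObj.Hom.top he
  · rw [k.cart.w, k'.cart.w, hb]

/-- The vertical isomorphism between two lifts of one morphism. -/
lemma exists_iso {B C A : AlgSt.QuotObj K G aX} (h₁ : B ⟶ A) (h₂ : C ⟶ A) (e : B.base = C.base)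
    (hb : h₁.base = eqToHom e ≫ h₂.base) : ∃ κ : B ≅ C, κ.hom.base = eqToHom e ∧ κ.hom ≫ h₂ = h₁ := by
  have mk : ∀ {B C : AlgSt.QuotObj K G aX} (h₁ : B ⟶ A) (h₂ : C ⟶ A) (e : B.base = C.base),
      h₁.base = eqToHom e ≫ h₂.base → ∃ k : B ⟶ C, k.base = eqToHom e ∧ k ≫ h₂ = h₁ := by
    intro B C h₁ h₂ e hb
    let t : B.P ⟶ C.P := h₂.cart.lift h₁.top (B.π ≫ eqToHom e) (by rw [h₁.cart.w, hb, Category.assoc])
    have ht₁ : t ≫ h₂.top = h₁.top := h₂.cart.lift_fst _ _ _
    have ht₂ : t ≫ C.π = B.π ≫ eqToHom e := h₂.cart.lift_snd _ _ _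
    refine ⟨⟨eqToHom e, t, h₂.cart.hom_ext ?_ ?_, ?_, ?_⟩, rfl, AlgSt.QuotObj.hom_ext hb.symm ht₁⟩
    · rw [Category.assoc, Category.assoc, ht₁, h₂.eqv, ← MonoidalCategory.whiskerLeft_comp_assoc, ht₁, h₁.eqv]
    · rw [Category.assoc, Category.assoc, ht₂, C.cart.w, ← Category.assoc, B.cart.w, whiskerLeft_snd_assoc, ht₂,
        Category.assoc]
    · exact IsPullback.of_right (by rw [ht₁, ← hb]; exact h₁.cart) ht₂ h₂.cart
    · rw [← h₂.wφ, reassoc_of% ht₁, h₁.wφ]
  obtain ⟨k, hk, hk'⟩ := mk h₁ h₂ e hb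
  obtain ⟨l, hl, hl'⟩ := mk h₂ h₁ e.symm (by rw [hb, eqToHom_trans_assoc, eqToHom_refl, Category.id_comp])
  exact ⟨⟨k, l, hom_cancel h₁ _ _ (by rw [AlgSt.QuotObj.comp_base, hk, hl, eqToHom_trans]; rfl)
      (by rw [Category.assoc, hl', hk', Category.id_comp]),
    hom_cancel h₂ _ _ (by rw [AlgSt.QuotObj.comp_base, hk, hl, eqToHom_trans]; rfl)
      (by rw [Category.assoc, hk', hl', Category.id_comp])⟩, hk, hk'⟩

lemma unit_homOfSection {T : Over S} (A : AlgSt.QuotObj K G aX) (s : T ⟶ A.P) :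
    lift (1 : T ⟶ G) (𝟙 T) ≫ (G ◁ s) ≫ A.act.act = s := by
  rw [← Category.assoc, lift_whisker, Category.id_comp, act_one]

lemma whisker_triv {T T' : Over S} (g : T' ⟶ T) {P : Over S} (a : AlgGrp.Action G P) (s : T ⟶ P) :
    (G ◁ g) ≫ (G ◁ s) ≫ a.act = (G ◁ (g ≫ s)) ≫ a.act := by
  rw [MonoidalCategory.whiskerLeft_comp, Category.assoc]

variable (K aX) in
/-- The map to the quotient stack. -/
abbrev qm : FibCat.overCat X ⥤ᵇ AlgSt.QuotSt K G aX :=
  BasedFunctor.comp (AlgSt.ofOverCat X) (AlgSt.quotMap K G aX)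

section

variable {T : Over S} (u : AlgSt.ofSch T ⥤ᵇ AlgSt.QuotSt K G aX)

/-- The tautological point of `T`. -/
abbrev one : (AlgSt.ofSch T).obj := ⟨T, ⟨𝟙 T⟩⟩

lemma one_base : (u.obj (one (T := T))).base = T := u.w_obj _

lemma obj_base (o : (AlgSt.ofSch T).obj) : (u.obj o).base = o.base := u.w_obj _

/-- The map to the tautological point. -/
abbrev toOne (o : (AlgSt.ofSch T).obj) : o ⟶ one (T := T) := ⟨o.sec.down, congrArg ULift.up (Category.comp_id (o.sec.down : o.base ⟶ T))⟩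

lemma map_base {o o' : (AlgSt.ofSch T).obj} (m : o ⟶ o') :
    (u.map m).base = eqToHom (obj_base u o) ≫ m.hom ≫ eqToHom (obj_base u o').symm := by
  haveI : (AlgSt.ofSch T).p.IsHomLift m.hom m := IsHomLift.map _ m
  haveI := u.preserves_isHomLift m.hom m
  exact (IsHomLift.fac' (AlgSt.QuotSt K G aX).p m.hom (u.map m))

/-- The point of `T` under a point of the torsor. -/
abbrev repBase (p : (AlgSt.ofSch (u.obj (one (T := T))).P).obj) : (AlgSt.ofSch T).obj :=
  ⟨p.base, ⟨p.sec.down ≫ (u.obj (one (T := T))).π ≫ eqToHom (one_base u)⟩⟩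

/-- The morphism from the trivial torsor. -/
abbrev repHom (p : (AlgSt.ofSch (u.obj (one (T := T))).P).obj) :
    triv K aX (p.sec.down ≫ (u.obj (one (T := T))).φ) ⟶ u.obj (one (T := T)) :=
  homOfSection (u.obj (one (T := T))) p.sec.down _ rfl (p.sec.down ≫ (u.obj (one (T := T))).π) rfl

lemma exists_repIso (p : (AlgSt.ofSch (u.obj (one (T := T))).P).obj) :
    ∃ κ : u.obj (repBase u p) ≅ triv K aX (p.sec.down ≫ (u.obj (one (T := T))).φ),
      κ.hom.base = eqToHom (obj_base u (repBase u p)) ∧ κ.hom ≫ repHom u p = u.map (toOne (repBase u p)) :=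
  exists_iso _ _ (obj_base u (repBase u p)) (by
    rw [map_base]
    show _ ≫ (p.sec.down ≫ (u.obj (one (T := T))).π ≫ eqToHom (one_base u)) ≫ _ = _ ≫ p.sec.down ≫ (u.obj (one (T := T))).π
    simp)

/-- The vertical isomorphism. -/
def repIso (p : (AlgSt.ofSch (u.obj (one (T := T))).P).obj) := (exists_repIso u p).choose

lemma repIso_base (p : (AlgSt.ofSch (u.obj (one (T := T))).P).obj) :
    (repIso u p).hom.base = eqToHom (obj_base u (repBase u p)) := (exists_repIso u p).choose_spec.1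

lemma repIso_fac (p : (AlgSt.ofSch (u.obj (one (T := T))).P).obj) :
    (repIso u p).hom ≫ repHom u p = u.map (toOne (repBase u p)) := (exists_repIso u p).choose_spec.2

lemma hom_sec {p q : (AlgSt.ofSch (u.obj (one (T := T))).P).obj} (g : p ⟶ q) :
    g.hom ≫ (q.sec.down : q.base ⟶ (u.obj (one (T := T))).P) = p.sec.down :=
  congrArg ULift.down g.map_sec

/-- The first component of the image of a morphism. -/
abbrev repMap₁ {p q : (AlgSt.ofSch (u.obj (one (T := T))).P).obj} (g : p ⟶ q) : repBase u p ⟶ repBase u q :=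
  ⟨g.hom, congrArg ULift.up ((Category.assoc g.hom q.sec.down _).symm.trans (congrArg (· ≫ _) (hom_sec u g)))⟩

/-- The second component of the image of a morphism. -/
abbrev repMap₂ {p q : (AlgSt.ofSch (u.obj (one (T := T))).P).obj} (g : p ⟶ q) :
    (Over.mk (p.sec.down ≫ (u.obj (one (T := T))).φ) : (FibCat.overCat X).obj) ⟶
      Over.mk (q.sec.down ≫ (u.obj (one (T := T))).φ) :=
  Over.homMk g.hom ((Category.assoc g.hom q.sec.down _).symm.trans (congrArg (· ≫ _) (hom_sec u g)))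

lemma qm_repHom {p q : (AlgSt.ofSch (u.obj (one (T := T))).P).obj} (g : p ⟶ q) :
    (qm K aX).map (repMap₂ u g) ≫ repHom u q = repHom u p := by
  refine AlgSt.QuotObj.hom_ext ?_ ?_
  · show g.hom ≫ q.sec.down ≫ (u.obj (one (T := T))).π = p.sec.down ≫ (u.obj (one (T := T))).π
    rw [← Category.assoc, hom_sec u g]
  · show (G ◁ g.hom) ≫ (G ◁ q.sec.down) ≫ _ = (G ◁ p.sec.down) ≫ _
    rw [whisker_triv, hom_sec u g]

lemma map_toOne {p q : (AlgSt.ofSch (u.obj (one (T := T))).P).obj} (g : p ⟶ q) :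
    repMap₁ u g ≫ toOne (repBase u q) = toOne (repBase u p) :=
  Stk.EltObj.hom_ext ((Category.assoc g.hom q.sec.down _).symm.trans (congrArg (· ≫ _) (hom_sec u g)))

lemma rep_w {p q : (AlgSt.ofSch (u.obj (one (T := T))).P).obj} (g : p ⟶ q) :
    u.map (repMap₁ u g) ≫ (repIso u q).hom = (repIso u p).hom ≫ (qm K aX).map (repMap₂ u g) := by
  refine hom_cancel (repHom u q) _ _ ?_ ?_
  · rw [AlgSt.QuotObj.comp_base, AlgSt.QuotObj.comp_base, map_base, repIso_base, repIso_base]
    show _ = _ ≫ g.hom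
    simp
  · rw [Category.assoc, Category.assoc, repIso_fac, qm_repHom, repIso_fac, ← u.toFunctor.map_comp, map_toOne]

/-- The torsor maps to the fibre product. -/
def repFun : AlgSt.ofSch (u.obj (one (T := T))).P ⥤ᵇ fp u (qm K aX) where
  toFunctor :=
    { obj := fun p => ⟨{ fst := repBase u p
                         snd := Over.mk (p.sec.down ≫ (u.obj (one (T := T))).φ)
                         iso := repIso u p },
        IsHomLift.of_fac' _ _ _ (obj_base u (repBase u p)) rfl (by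
          show (repIso u p).hom.base = _
          rw [repIso_base]
          simp)⟩
      map := fun {p q} g => ObjectProperty.homMk
        { fst := repMap₁ u g
          snd := repMap₂ u g
          w := rep_w u g }
      map_id := fun p => ObjectProperty.hom_ext _ (CategoricalPullback.hom_ext rfl rfl)
      map_comp := fun f g => ObjectProperty.hom_ext _ (CategoricalPullback.hom_ext rfl rfl) }
  w := rfl

lemma isEquivOver_repFun : IsEquivOver (repFun u) := by
  haveI : (repFun u).toFunctor.Faithful :=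
    ⟨fun {p q} f g h => Stk.EltObj.hom_ext (congrArg (fun t => t.hom.fst.hom) h)⟩
  haveI : (repFun u).toFunctor.Full := ⟨fun {p q} ψ => by
    let g : p.base ⟶ q.base := ψ.hom.fst.hom
    have hw : u.map ψ.hom.fst ≫ (repIso u q).hom = (repIso u p).hom ≫ (qm K aX).map ψ.hom.snd := ψ.hom.w
    have h2 : ψ.hom.snd.left = g := by
      have := congrArg AlgSt.QuotObj.Hom.base hw
      rw [AlgSt.QuotObj.comp_base, AlgSt.QuotObj.comp_base, map_base, repIso_base, repIso_base] at this
      have e : ((qm K aX).map ψ.hom.snd).base = ψ.hom.snd.left := rfl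
      rw [e] at this
      exact (cancel_epi _).1 ((by simpa using this.symm) : eqToHom (obj_base u (repBase u p)) ≫ ψ.hom.snd.left = eqToHom (obj_base u (repBase u p)) ≫ g)
    have h3 : ψ.hom.fst ≫ toOne (repBase u q) = toOne (repBase u p) :=
      Stk.EltObj.hom_ext (congrArg ULift.down ψ.hom.fst.map_sec)
    have h4 : (repIso u p).hom ≫ repHom u p = (repIso u p).hom ≫ (qm K aX).map ψ.hom.snd ≫ repHom u q := by
      rw [repIso_fac, ← reassoc_of% hw, repIso_fac, ← u.toFunctor.map_comp, h3]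
    rw [cancel_epi] at h4
    have h5 : g ≫ q.sec.down = p.sec.down := by
      have := congrArg (fun t => lift (1 : p.base ⟶ G) (𝟙 p.base) ≫ t) (congrArg AlgSt.QuotObj.Hom.top h4)
      have e : ((qm K aX).map ψ.hom.snd ≫ repHom u q).top =
          (G ◁ ψ.hom.snd.left) ≫ (G ◁ q.sec.down) ≫ (u.obj (one (T := T))).act.act := rfl
      rw [e, h2, whisker_triv] at this
      exact (unit_homOfSection _ (g ≫ q.sec.down)).symm.trans (this.symm.trans (unit_homOfSection _ p.sec.down))
    exact ⟨⟨g, congrArg ULift.up h5⟩, ObjectProperty.hom_ext _ (CategoricalPullback.hom_ext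
      (Stk.EltObj.hom_ext rfl) (Over.OverMorphism.ext h2.symm))⟩⟩
  refine isEquivOver_of_vertEssSurj _ fun z => ?_
  obtain ⟨⟨⟨T', ⟨f⟩⟩, Y, κ'⟩, hκ⟩ := z
  haveI : (AlgSt.QuotSt K G aX).p.IsHomLift (𝟙 T') κ'.hom := hκ
  have hY : Y.left = T' := IsHomLift.codomain_eq (AlgSt.QuotSt K G aX).p (𝟙 T') κ'.hom
  obtain ⟨Yl, ⟨⟨⟩⟩, x⟩ := Y
  change Yl = T' at hY
  subst hY
  change Yl ⟶ X at x
  let hh : triv K aX x ⟶ u.obj (one (T := T)) := κ'.inv ≫ u.map (toOne ⟨Yl, ⟨f⟩⟩)
  let s : Yl ⟶ (u.obj (one (T := T))).P := lift (1 : Yl ⟶ G) (𝟙 Yl) ≫ hh.top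
  have hbase : hh.base = f ≫ eqToHom (one_base u).symm := by
    have h' : κ'.hom.base = eqToHom (obj_base u ⟨Yl, ⟨f⟩⟩) := by
      exact (IsHomLift.fac' (AlgSt.QuotSt K G aX).p (𝟙 Yl) κ'.hom).trans (by simp)
    have h'' : κ'.inv.base = eqToHom (obj_base u ⟨Yl, ⟨f⟩⟩).symm := by
      have := congrArg AlgSt.QuotObj.Hom.base κ'.inv_hom_id
      rw [AlgSt.QuotObj.comp_base, h'] at this
      have := this =≫ eqToHom (obj_base u ⟨Yl, ⟨f⟩⟩).symm
      simpa using this
    rw [AlgSt.QuotObj.comp_base, h'', map_base]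
    simp
  have hf : s ≫ (u.obj (one (T := T))).π ≫ eqToHom (one_base u) = f := by
    have w : hh.top ≫ (u.obj (one (T := T))).π = snd G Yl ≫ hh.base := hh.cart.w
    rw [Category.assoc, reassoc_of% w, hbase]
    simp
  have hx : s ≫ (u.obj (one (T := T))).φ = x := by
    have w : hh.top ≫ (u.obj (one (T := T))).φ = (G ◁ x) ≫ aX.act := hh.wφ
    rw [Category.assoc, w, ← Category.assoc, lift_whisker, Category.id_comp, act_one]
  let p : (AlgSt.ofSch (u.obj (one (T := T))).P).obj := ⟨Yl, ⟨s⟩⟩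
  let m₁ : repBase u p ⟶ (⟨Yl, ⟨f⟩⟩ : (AlgSt.ofSch T).obj) :=
    ⟨𝟙 Yl, congrArg ULift.up ((Category.id_comp f).trans hf.symm)⟩
  haveI : IsIso m₁ := ⟨⟨⟨𝟙 Yl, congrArg ULift.up ((Category.id_comp _).trans hf)⟩,
    Stk.EltObj.hom_ext (Category.comp_id _), Stk.EltObj.hom_ext (Category.comp_id _)⟩⟩
  let m₂ : (Over.mk (p.sec.down ≫ (u.obj (one (T := T))).φ) : (FibCat.overCat X).obj) ≅ Over.mk x :=
    Over.isoMk (Iso.refl Yl) ((Category.id_comp x).trans hx.symm)
  refine ⟨p, ObjectProperty.isoMk _ (CategoricalPullback.mkIso (asIso m₁) m₂ ?_), ?_⟩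
  · show u.map m₁ ≫ κ'.hom = (repIso u p).hom ≫ (qm K aX).map m₂.hom
    have e1 : (qm K aX).map m₂.hom ≫ hh = repHom u p := by
      refine AlgSt.QuotObj.hom_ext ?_ ?_
      · show 𝟙 Yl ≫ hh.base = s ≫ (u.obj (one (T := T))).π
        rw [Category.id_comp, hbase, ← hf]
        simp
      · show (G ◁ 𝟙 Yl) ≫ hh.top = (G ◁ s) ≫ (u.obj (one (T := T))).act.act
        rw [MonoidalCategory.whiskerLeft_id, Category.id_comp]
        exact top_eq hh
    refine hom_cancel hh _ _ ?_ ?_
    · rw [AlgSt.QuotObj.comp_base, AlgSt.QuotObj.comp_base, map_base, repIso_base]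
      have h' : κ'.hom.base = eqToHom (obj_base u ⟨Yl, ⟨f⟩⟩) := by
        exact (IsHomLift.fac' (AlgSt.QuotSt K G aX).p (𝟙 Yl) κ'.hom).trans (by simp)
      rw [h']
      show (_ ≫ 𝟙 Yl ≫ _) ≫ _ = _ ≫ 𝟙 Yl
      simp
    · rw [Category.assoc, Category.assoc, e1, repIso_fac, Iso.hom_inv_id_assoc, ← u.toFunctor.map_comp]
      exact congrArg u.toFunctor.map (Stk.EltObj.hom_ext ((Category.id_comp f).trans hf.symm))
  · refine IsHomLift.of_fac' _ _ _ rfl rfl ?_
    simp
    rfl

/-- The canonical map is represented by the torsor. -/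
theorem along_qm : AlgStLib.Along u (qm K aX)
    ((AlgSp.yon S).map ((u.obj (one (T := T))).π ≫ eqToHom (one_base u))).hom :=
  ⟨repFun u, isEquivOver_repFun u, ⟨Iso.refl _⟩⟩

end

end QuotStLib

namespace QuotStLib

open AlgSp AlgSpLib AlgStLib

variable {S : Scheme.{u}} {G X : Over S} [GrpObj G]

/-- The canonical map has the properties of the group. -/
theorem repByAlgSpWith_qm (aX : AlgGrp.Action G X) (P : MorphismProperty Scheme.{u}) [P.IsStableUnderBaseChange]
    [EtLocProp P] (hl : IsLocalOnBase IsFppfCover (LocP P : MorphismProperty (Sp S))) (hG : P G.hom) :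
    AlgSt.RepByAlgSpWith (LocP P) (qm Scheme.fppfPrecoverage aX) := by
  refine (repByAlgSpWith_iff _ _).mpr fun T u => ⟨_, _, IsAlgSpace.yon_obj _, along_qm u, ?_⟩
  refine (locP_yon_map_iff _).2 ?_
  haveI : IsIso ((eqToHom (one_base u)).left) := inferInstanceAs (IsIso ((Over.forget S).map (eqToHom (one_base u))))
  rw [Over.comp_left, MorphismProperty.cancel_right_of_respectsIso P]
  exact (locP_yon_map_iff _).1 (locP_torsor P hl hG _)

/-- The canonical map is surjective. -/
theorem repByAlgSpWith_qm_surjective (aX : AlgGrp.Action G X) :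
    AlgSt.RepByAlgSpWith IsSurjectiveMor (qm Scheme.fppfPrecoverage aX) := by
  refine (repByAlgSpWith_iff _ _).mpr fun T u => ⟨_, _, IsAlgSpace.yon_obj _, along_qm u, ?_⟩
  intro z
  obtain ⟨w, hw⟩ := isSurjectiveMor_torsor (u.obj (one (T := T))) (Points.map ((yon S).map (eqToHom (one_base u).symm)) z)
  refine ⟨w, ?_⟩
  rw [Functor.map_comp, Points.map_comp, hw, ← Points.map_comp, ← Functor.map_comp, eqToHom_trans, eqToHom_refl,
    CategoryTheory.Functor.map_id, Points.map_id]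

end QuotStLib
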