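import Groth.Agent.QuotStLib.Basic
import Groth.Agent.AlgStLib.Basic
import Groth.Agent.AlgStLib.PointsTop
import Groth.Agent.AlgSpLib.SheafDesc
import Groth.Agent.AlgStLib.SmST

/-! The structure morphism of a torsor inherits the properties of the group. -/

set_option autoImplicit false
set_option linter.all false
set_option backward.isDefEq.respectTransparency false
set_option backward.isDefEq.respectTransparency.types false

universe u

open CategoryTheory CategoryTheory.Limits MonoidalCategory CartesianMonoidalCategory MonObj GrpObj AlgebraicGeometry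
open Opposite AlgSp AlgSpLib AlgStLib

namespace QuotStLib

variable {S : Scheme.{u}} {G X : Over S} [GrpObj G] {aX : AlgGrp.Action G X}

omit [GrpObj G] in
lemma isPullback_snd_left (T : Over S) :
    IsPullback (fst G T).left (snd G T).left G.hom T.hom := by
  have h := (AlgSt.isPullback_fst_snd G T).map (Over.forget S)
  simpa using h

/-- The fppf covering of the base of a torsor with sections. -/
lemma exists_sections (A : AlgSt.QuotObj Scheme.fppfPrecoverage G aX) :
    ∃ (V : A.base.left → Over S) (v : ∀ t, V t ⟶ A.base) (σ : ∀ t, V t ⟶ A.P), (∀ t, σ t ≫ A.π = v t) ∧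
      (∀ t, Flat (v t).left) ∧ (∀ t, LocallyOfFinitePresentation (v t).left) ∧ ∀ t, t ∈ Set.range (v t).left := by
  obtain ⟨R, hR, hs⟩ := A.loc
  obtain ⟨J₀, Z, k, rfl⟩ := R.exists_eq_ofArrows
  obtain ⟨hj, hp⟩ := (Scheme.ofArrows_mem_precoverage_iff _).mp hR
  choose i hi using hj
  choose σ hσ using fun t => hs (k (i t)) ⟨i t⟩
  have hσ' : ∀ t, σ t ≫ A.π.left = k (i t) := hσ
  refine ⟨fun t => Over.mk (k (i t) ≫ A.base.hom), fun t => Over.homMk (k (i t)) rfl,
    fun t => Over.homMk (σ t) (by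
      show σ t ≫ A.P.hom = k (i t) ≫ A.base.hom
      rw [← hσ', Category.assoc, Over.w]), fun t => Over.OverMorphism.ext (hσ' t),
    fun t => (hp (i t)).1, fun t => (hp (i t)).2, hi⟩

/-- A property of the group passes to torsors. -/
theorem locP_torsor (P : MorphismProperty Scheme.{u}) [P.IsStableUnderBaseChange] [EtLocProp P]
    (hl : IsLocalOnBase IsFppfCover (LocP P : MorphismProperty (Sp S))) (hG : P G.hom)
    (A : AlgSt.QuotObj Scheme.fppfPrecoverage G aX) : LocP P ((yon S).map A.π) := by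
  obtain ⟨V, v, σ, hσ, hv₁, hv₂, hv₃⟩ := exists_sections A
  have hτ : IsFppfCover (fun t => (yon S).obj (V t)) (fun t => (yon S).map (v t)) :=
    ⟨fun t => ⟨(locP_yon_map_iff _).2 (hv₁ t), (locP_yon_map_iff _).2 (hv₂ t)⟩, fun z => by
      obtain ⟨p, rfl⟩ := (Points.schemeHomeo A.base).surjective z
      obtain ⟨q, hq⟩ := hv₃ p
      exact ⟨p, Points.schemeHomeo (V p) q, by rw [Points.map_yon_map_apply, hq]⟩⟩
  have sq : ∀ t, IsPullback ((G ◁ σ t) ≫ A.act.act) (snd G (V t)) A.π (v t) := fun t =>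
    hσ t ▸ (AlgSt.isPullback_whiskerLeft (σ t)).paste_horiz A.cart
  exact (hl _ (fun t => (yon S).map (v t)) (IsAlgSpace.yon_obj _) (fun t => IsAlgSpace.yon_obj _) hτ
    ((yon S).map A.π) (IsAlgSpace.yon_obj _) _ (fun t => (yon S).map (snd G (V t)))
    (fun t => (yon S).map ((G ◁ σ t) ≫ A.act.act)) (fun t => IsAlgSpace.yon_obj _)
    (fun t => (sq t).map (yon S))).mpr fun t =>
      (locP_yon_map_iff _).2 (P.of_isPullback (isPullback_snd_left (V t)) hG)

theorem isSurjectiveMor_torsor (A : AlgSt.QuotObj Scheme.fppfPrecoverage G aX) :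
    IsSurjectiveMor ((yon S).map A.π) := by
  obtain ⟨V, v, σ, hσ, -, -, hv₃⟩ := exists_sections A
  intro z
  obtain ⟨p, rfl⟩ := (Points.schemeHomeo A.base).surjective z
  obtain ⟨q, hq⟩ := hv₃ p
  refine ⟨Points.schemeHomeo A.P ((σ p).left q), ?_⟩
  rw [Points.map_yon_map_apply, ← Scheme.Hom.comp_apply, ← Over.comp_left, hσ, hq]

end QuotStLib
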