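import Groth.Prelude.Def_AlgSt5

/-! Morphisms out of trivial torsors in a quotient stack. -/

set_option autoImplicit false
set_option linter.all false
set_option backward.isDefEq.respectTransparency false
set_option backward.isDefEq.respectTransparency.types false

noncomputable section

universe u

open CategoryTheory CategoryTheory.Limits MonoidalCategory CartesianMonoidalCategory MonObj GrpObj AlgebraicGeometry

namespace QuotStLib

variable {S : Scheme.{u}} {G X P : Over S} [GrpObj G]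

theorem act_one (a : AlgGrp.Action G X) {T : Over S} (x : T ⟶ X) :
    lift (1 : T ⟶ G) x ≫ a.act = x := by
  have h := lift (toUnit T) x ≫= a.one_act
  rw [← Category.assoc, lift_whiskerRight] at h
  rw [Hom.one_def, h]
  simp

theorem act_mul (a : AlgGrp.Action G X) {T : Over S} (g h : T ⟶ G) (x : T ⟶ X) :
    lift (g * h) x ≫ a.act = lift g (lift h x ≫ a.act) ≫ a.act := by
  have h' := lift (lift g h) x ≫= a.mul_act
  rw [← Category.assoc, lift_whiskerRight, ← Category.assoc, lift_lift_associator_hom, ← Category.assoc,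
    lift_whiskerLeft] at h'
  rw [Hom.mul_def, h']

lemma lift_whisker {T Y Z : Over S} (g : T ⟶ G) (y : T ⟶ Y) (f : Y ⟶ Z) :
    lift g y ≫ (G ◁ f) = lift g (y ≫ f) := lift_whiskerLeft _ _ _

lemma whisker_eq_lift {T Y : Over S} (f : T ⟶ Y) : G ◁ f = lift (fst G T) (snd G T ≫ f) :=
  CartesianMonoidalCategory.hom_ext _ _ (by simp) (by simp)

lemma whisker_act_leftMul {T : Over S} (a : AlgGrp.Action G P) (s : T ⟶ P) :
    (AlgSt.leftMul G T).act ≫ (G ◁ s) ≫ a.act = (G ◁ ((G ◁ s) ≫ a.act)) ≫ a.act := by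
  rw [whisker_eq_lift s, whisker_eq_lift (lift (fst G T) (snd G T ≫ s) ≫ a.act), ← Category.assoc,
    comp_lift, ← Category.assoc (AlgSt.leftMul G T).act (snd G T), AlgSt.leftMul, lift_fst, lift_snd,
    Category.assoc, act_mul]
  simp only [comp_lift_assoc, Category.assoc]

variable (K : Precoverage Scheme.{u}) [K.HasIsos] {aX : AlgGrp.Action G X}

/-- The trivial torsor of a point. -/
abbrev triv (aX : AlgGrp.Action G X) {T : Over S} (x : T ⟶ X) : AlgSt.QuotObj K G aX :=
  (AlgSt.quotMap K G aX).obj ((AlgSt.ofOverCat X).obj (Over.mk x))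

variable {K}

/-- A section gives a morphism from a trivial torsor. -/
def homOfSection {T : Over S} (A : AlgSt.QuotObj K G aX) (s : T ⟶ A.P) (x : T ⟶ X) (hx : s ≫ A.φ = x)
    (f : T ⟶ A.base) (hf : s ≫ A.π = f) : triv K aX x ⟶ A where
  base := f
  top := (G ◁ s) ≫ A.act.act
  eqv := whisker_act_leftMul A.act s
  cart := hf ▸ (AlgSt.isPullback_whiskerLeft s).paste_horiz A.cart
  wφ := by
    show ((G ◁ s) ≫ A.act.act) ≫ A.φ = (G ◁ x) ≫ aX.act
    rw [Category.assoc, A.eqv, ← MonoidalCategory.whiskerLeft_comp_assoc, hx]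

/-- Every morphism from a trivial torsor comes from the image of the unit. -/
lemma top_eq {T : Over S} {A : AlgSt.QuotObj K G aX} {x : T ⟶ X} (h : triv K aX x ⟶ A) :
    h.top = (G ◁ (lift (1 : T ⟶ G) (𝟙 T) ≫ h.top)) ≫ A.act.act := by
  have e : (AlgSt.leftMul G T).act ≫ h.top = (G ◁ h.top) ≫ A.act.act := h.eqv
  have u : lift (fst G T) (lift (1 : G ⊗ T ⟶ G) (snd G T)) ≫ (AlgSt.leftMul G T).act = 𝟙 _ := by
    simp [AlgSt.leftMul, comp_lift, comp_mul, lift_fst_snd]
  calc h.top = (lift (fst G T) (lift (1 : G ⊗ T ⟶ G) (snd G T)) ≫ (AlgSt.leftMul G T).act) ≫ h.top := by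
        rw [u]; exact (Category.id_comp _).symm
    _ = _ := by
      rw [Category.assoc, e, ← Category.assoc, lift_whisker,
        whisker_eq_lift (lift (1 : T ⟶ G) (𝟙 T) ≫ h.top), ← Category.assoc (snd G T), comp_lift,
        Category.comp_id, MonObj.comp_one]

theorem hom_iff {T T' : Over S} (f : T ⟶ T') (x : T ⟶ X) (x' : T' ⟶ X) :
    (∀ h : triv K aX x ⟶ triv K aX x', h.base = f → ∃ g : T ⟶ G, lift g (f ≫ x') ≫ aX.act = x ∧
      h.top = lift (fst G T * (snd G T ≫ g)) (snd G T ≫ f)) ∧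
    (∀ g : T ⟶ G, lift g (f ≫ x') ≫ aX.act = x → ∃ h : triv K aX x ⟶ triv K aX x',
      h.base = f ∧ h.top = lift (fst G T * (snd G T ≫ g)) (snd G T ≫ f)) := by
  have ht : ∀ g : T ⟶ G, (G ◁ (lift g f)) ≫ (AlgSt.leftMul G T').act =
      lift (fst G T * (snd G T ≫ g)) (snd G T ≫ f) := fun g => by
    simp [AlgSt.leftMul, comp_lift, comp_mul]
  refine ⟨fun h hb => ?_, fun g hg => ?_⟩
  · let s : T ⟶ G ⊗ T' := lift (1 : T ⟶ G) (𝟙 T) ≫ h.top
    have hs2 : s ≫ snd G T' = f := by
      have w : h.top ≫ snd G T' = snd G T ≫ f := by rw [← hb]; exact h.cart.w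
      simp only [s, Category.assoc, w, lift_snd_assoc, Category.id_comp]
    have hs : s = lift (s ≫ fst G T') f := CartesianMonoidalCategory.hom_ext _ _ (by simp) (by simp [hs2])
    refine ⟨s ≫ fst G T', ?_, ?_⟩
    · have w : h.top ≫ (G ◁ x') ≫ aX.act = (G ◁ x) ≫ aX.act := h.wφ
      have := lift (1 : T ⟶ G) (𝟙 T) ≫= w
      rw [← Category.assoc, show lift (1 : T ⟶ G) (𝟙 T) ≫ h.top = s from rfl, hs, ← Category.assoc,
        lift_whisker] at this
      rw [this, ← Category.assoc, lift_whisker, Category.id_comp, act_one]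
    · rw [← ht, ← hs]; exact top_eq h
  · exact ⟨homOfSection (triv K aX x') (lift g f) x
      (by show lift g f ≫ (G ◁ x') ≫ aX.act = x; rw [← Category.assoc, lift_whisker, hg]) f (lift_snd _ _),
      rfl, ht g⟩

end QuotStLib
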