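import Groth.Agent.QuotStLib.Torsor
import Groth.Agent.AlgStLib.LocQ5
import Groth.Agent.AlgStLib.SpaceTest
import Groth.Agent.AlgStLib.LocQ6
import Groth.Agent.AlgSpLib.RepDescent

/-! Functors from a quotient stack to an algebraic space. -/

set_option autoImplicit false
set_option linter.all false
set_option backward.isDefEq.respectTransparency false
set_option backward.isDefEq.respectTransparency.types false

noncomputable section

universe u

open CategoryTheory CategoryTheory.Limits MonoidalCategory CartesianMonoidalCategory AlgebraicGeometry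
open Opposite AlgSp AlgSpLib AlgStLib

namespace QuotStLib

variable {S : Scheme.{u}}

/-- Functors into a sheaf are equal when their sections are. -/
lemma basedFunctor_ext_sec {𝒲 : AlgSt.Cat S} {M : Sp S} {Φ Ψ : 𝒲 ⥤ᵇ AlgSt.ofSp M}
    (h : ∀ a, secOf Φ a = secOf Ψ a) : Φ = Ψ := by
  have hobj : ∀ a, Φ.obj a = Ψ.obj a := fun a => by rw [obj_eq Φ a, obj_eq Ψ a, h a]
  have hF : Φ.toFunctor = Ψ.toFunctor := CategoryTheory.Functor.ext hobj fun a b φ => by
    haveI : 𝒲.p.IsHomLift (𝒲.p.map φ) φ := IsHomLift.map _ φ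
    haveI : (AlgSt.ofSp M).p.IsHomLift (𝒲.p.map φ) (Φ.map φ) := Φ.preserves_isHomLift (𝒲.p.map φ) φ
    haveI : (AlgSt.ofSp M).p.IsHomLift (𝒲.p.map φ) (Ψ.map φ) := Ψ.preserves_isHomLift (𝒲.p.map φ) φ
    have h1 : (Φ.map φ).hom = _ := IsHomLift.fac' (AlgSt.ofSp M).p (𝒲.p.map φ) (Φ.map φ)
    have h2 : (Ψ.map φ).hom = _ := IsHomLift.fac' (AlgSt.ofSp M).p (𝒲.p.map φ) (Ψ.map φ)
    refine Stk.EltObj.hom_ext ?_
    change (Φ.map φ).hom = (eqToHom (hobj a)).hom ≫ (Ψ.map φ).hom ≫ (eqToHom (hobj b).symm).hom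
    rw [h1, h2, eqToHom_hom, eqToHom_hom]
    simp
  obtain ⟨F, hw⟩ := Φ
  obtain ⟨F', hw'⟩ := Ψ
  cases hF
  rfl

variable {G X : Over S} [GrpObj G] {aX : AlgGrp.Action G X}

/-- An invariant map descends along a torsor. -/
theorem existsUnique_desc_torsor [Flat G.hom] [LocallyOfFinitePresentation G.hom]
    (A : AlgSt.QuotObj Scheme.fppfPrecoverage G aX) {M : Sp S} (f : (yon S).obj X ⟶ M)
    (hf : (yon S).map aX.act ≫ f = (yon S).map (snd G X) ≫ f) :
    ∃! s : (yon S).obj A.base ⟶ M, (yon S).map A.π ≫ s = (yon S).map A.φ ≫ f := by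
  haveI : Flat A.π.left :=
    (locP_yon_map_iff _).1 (locP_torsor @Flat isLocalOnBase_fppf_flat inferInstance A)
  haveI : LocallyOfFinitePresentation A.π.left :=
    (locP_yon_map_iff _).1 (locP_torsor @LocallyOfFinitePresentation isLocalOnBase_fppf_lfp inferInstance A)
  haveI : Surjective A.π.left := surjective_left_of_isSurjectiveMor (isSurjectiveMor_torsor A)
  haveI := isLocallySurjective_yon_map A.π
  obtain ⟨s, hs⟩ := exists_desc ((yon S).map A.π) ((yon S).map A.φ ≫ f) fun T b b' e => by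
    have sqA := A.cart.map (yon S)
    rw [← sqA.lift_fst b b' e]
    conv_rhs => rw [← sqA.lift_snd b b' e]
    simp only [Category.assoc]
    congr 1
    rw [← Functor.map_comp_assoc, A.eqv, Functor.map_comp_assoc, hf, ← Functor.map_comp_assoc,
      whiskerLeft_snd, Functor.map_comp_assoc]
  exact ⟨s, hs, fun s' hs' => (cancel_epi ((yon S).map A.π)).1 (hs'.trans hs.symm)⟩

/-- An invariant map extends uniquely to the quotient stack. -/
theorem existsUnique_toSpace [Flat G.hom] [LocallyOfFinitePresentation G.hom] {M : Sp S}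
    (f : (yon S).obj X ⟶ M) (hf : (yon S).map aX.act ≫ f = (yon S).map (snd G X) ≫ f) :
    ∃! φ : AlgSt.QuotSt Scheme.fppfPrecoverage G aX ⥤ᵇ AlgSt.ofSp M,
      BasedFunctor.comp (AlgSt.quotMap Scheme.fppfPrecoverage G aX) φ = AlgSt.ofSpMap f := by
  choose s hs hu using fun A => existsUnique_desc_torsor (aX := aX) A f hf
  have hnat : ∀ {A B : AlgSt.QuotObj Scheme.fppfPrecoverage G aX} (h : A ⟶ B), (yon S).map h.base ≫ s B = s A := by
    intro A B h
    refine hu A _ ?_
    show (yon S).map A.π ≫ (yon S).map h.base ≫ s B = (yon S).map A.φ ≫ f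
    rw [← Functor.map_comp_assoc, ← h.cart.w, Functor.map_comp_assoc, hs B, ← Functor.map_comp_assoc, h.wφ]
  let φ : AlgSt.QuotSt Scheme.fppfPrecoverage G aX ⥤ᵇ AlgSt.ofSp M :=
    { toFunctor :=
        { obj := fun A => ⟨A.base, yEq (s A)⟩
          map := fun {A B} h => ⟨h.base, by rw [← yEq_map, hnat h]⟩
          map_id := fun A => Stk.EltObj.hom_ext rfl
          map_comp := fun f g => Stk.EltObj.hom_ext rfl }
      w := rfl }
  have hq : ∀ o : (AlgSt.ofSch X).obj,
      s ((AlgSt.quotMap Scheme.fppfPrecoverage G aX).obj o) = (yon S).map o.sec.down ≫ f := fun o => by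
    symm
    refine hu ((AlgSt.quotMap Scheme.fppfPrecoverage G aX).obj o) _ ?_
    show (yon S).map (snd G o.base) ≫ _ = (yon S).map ((G ◁ o.sec.down) ≫ aX.act) ≫ f
    rw [Functor.map_comp_assoc, hf, ← Functor.map_comp_assoc, ← Functor.map_comp_assoc, whiskerLeft_snd]
  refine ⟨φ, basedFunctor_ext_sec fun o => ?_, fun ψ hψ => basedFunctor_ext_sec fun A => ?_⟩
  · have e : yEq (s ((AlgSt.quotMap Scheme.fppfPrecoverage G aX).obj o)) = f.hom.app (op o.base) o.sec := by
      rw [hq, yEq_comp]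
      rfl
    refine Eq.trans ?_ (secOf_ofPshMap f.hom o).symm
    refine Eq.trans ?_ e
    simp only [secOf]
    erw [Functor.map_id_apply]
    rfl
  · let σ : M.obj.obj (op A.base) := secOf ψ A
    have h1 : (yEq.symm σ : (yon S).obj A.base ⟶ M) = s A := by
      refine hu A _ ?_
      refine yEq.injective ?_
      let o : (AlgSt.ofSch X).obj := ⟨A.P, ⟨A.φ⟩⟩
      let h : (AlgSt.quotMap Scheme.fppfPrecoverage G aX).obj o ⟶ A :=
        homOfSection A (𝟙 A.P) A.φ (Category.id_comp _) A.π (Category.id_comp _)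
      have e1 := secOf_naturality ψ h
      have e2 : secOf ψ ((AlgSt.quotMap Scheme.fppfPrecoverage G aX).obj o) = f.hom.app (op A.P) o.sec := by
        refine Eq.trans ?_ (secOf_ofPshMap f.hom o)
        show secOf (BasedFunctor.comp (AlgSt.quotMap Scheme.fppfPrecoverage G aX) ψ) o = _
        rw [hψ]
      rw [yEq_map, Equiv.apply_symm_apply, yEq_comp]
      exact e1.trans e2
    have h2 : σ = yEq (s A) := by rw [← h1, Equiv.apply_symm_apply]
    refine h2.trans ?_
    simp only [secOf]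
    erw [Functor.map_id_apply]

end QuotStLib
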