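import Groth.Agent.QuotStLib.Moduli
import Groth.Agent.QuotStLib.MapRep
import Mathlib.AlgebraicGeometry.AlgClosed.Basic

/-! Coarse moduli spaces of quotient stacks. -/

set_option autoImplicit false
set_option linter.all false
set_option backward.isDefEq.respectTransparency false
set_option backward.isDefEq.respectTransparency.types false

noncomputable section

universe u

open CategoryTheory CategoryTheory.Limits MonoidalCategory CartesianMonoidalCategory AlgebraicGeometry
open Opposite AlgSp AlgSpLib AlgStLib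

namespace QuotStLib

variable {S : Scheme.{u}} {G X : Over S} [GrpObj G] {aX : AlgGrp.Action G X}

/-- Torsors over algebraically closed fields have sections. -/
lemma exists_section_of_isAlgClosed [Flat G.hom] [LocallyOfFinitePresentation G.hom]
    (A : AlgSt.QuotObj Scheme.fppfPrecoverage G aX) {Ω : Type u} [Field Ω] [IsAlgClosed Ω]
    {t : Spec (CommRingCat.of Ω) ⟶ S} (e : Over.mk t = A.base) :
    ∃ s : Over.mk t ⟶ A.P, s ≫ A.π = eqToHom e := by
  haveI : LocallyOfFinitePresentation A.π.left :=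
    (locP_yon_map_iff _).1 (locP_torsor @LocallyOfFinitePresentation isLocalOnBase_fppf_lfp inferInstance A)
  haveI : Surjective A.π.left := surjective_left_of_isSurjectiveMor (isSurjectiveMor_torsor A)
  let f : A.P.left ⟶ Spec (CommRingCat.of Ω) := A.π.left ≫ (eqToHom e.symm).left
  haveI : LocallyOfFiniteType A.π.left := inferInstance
  haveI : LocallyOfFiniteType f := inferInstance
  haveI : JacobsonSpace ↥A.P.left := LocallyOfFiniteType.jacobsonSpace f
  obtain ⟨z, -⟩ := A.π.left.surjective ((eqToHom e).left (IsLocalRing.closedPoint Ω))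
  obtain ⟨p, -, hp⟩ := nonempty_inter_closedPoints (Z := (Set.univ : Set A.P.left)) ⟨z, trivial⟩
    isOpen_univ.isLocallyClosed
  have h1 : pointOfClosedPoint f p hp ≫ A.π.left = (eqToHom e).left := by
    have h0 : pointOfClosedPoint f p hp ≫ A.π.left ≫ (eqToHom e.symm).left = 𝟙 _ := pointOfClosedPoint_comp f p hp
    have h2 : (eqToHom e.symm).left ≫ (eqToHom e).left = 𝟙 A.base.left := by
      rw [← Over.comp_left, eqToHom_trans, eqToHom_refl, Over.id_left]
    calc pointOfClosedPoint f p hp ≫ A.π.left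
        = (pointOfClosedPoint f p hp ≫ A.π.left ≫ (eqToHom e.symm).left) ≫ (eqToHom e).left := by
          rw [Category.assoc, Category.assoc, h2, Category.comp_id]
      _ = _ := by rw [h0]; exact Category.id_comp _
  refine ⟨Over.homMk (pointOfClosedPoint f p hp) ?_, Over.OverMorphism.ext h1⟩
  show pointOfClosedPoint f p hp ≫ A.P.hom = t
  rw [← Over.w A.π, ← Category.assoc, h1]
  exact Over.w (eqToHom e)

/-- A morphism from a trivial torsor to a torsor over the same base is an isomorphism. -/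
lemma exists_iso_of_hom {T : Over S} {x : T ⟶ X} {A : AlgSt.QuotObj Scheme.fppfPrecoverage G aX}
    (e : T = A.base) (h : triv Scheme.fppfPrecoverage aX x ⟶ A) (hb : h.base = eqToHom e) :
    ∃ κ : triv Scheme.fppfPrecoverage aX x ≅ A, κ.hom.base = eqToHom e := by
  obtain ⟨κ, hκ, -⟩ := exists_iso h (𝟙 A) e (by rw [hb]; exact (Category.comp_id _).symm)
  exact ⟨κ, hκ⟩

/-- The quotient stack is bijective with a quotient on geometric points when the orbits are. -/
theorem geomPtBij [Flat G.hom] [LocallyOfFinitePresentation G.hom] {Y : Over S} (f : X ⟶ Y)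
    (π : AlgSt.QuotSt Scheme.fppfPrecoverage G aX ⥤ᵇ AlgSt.ofSch Y)
    (hπ : BasedFunctor.comp (AlgSt.quotMap Scheme.fppfPrecoverage G aX) π = AlgSt.ofSpMap ((yon S).map f))
    (horb : ∀ (Ω : Type u) [Field Ω] [IsAlgClosed Ω] (t : Spec (CommRingCat.of Ω) ⟶ S),
      (∀ y : Over.mk t ⟶ Y, ∃ x : Over.mk t ⟶ X, x ≫ f = y) ∧
      (∀ x x' : Over.mk t ⟶ X, x ≫ f = x' ≫ f → ∃ g : Over.mk t ⟶ G, lift g x' ≫ aX.act = x)) :
    AlgSt.GeomPtBij π := by
  have hsec : ∀ {T : Over S} (x : T ⟶ X),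
      secOf π (triv Scheme.fppfPrecoverage aX x) = (⟨x ≫ f⟩ : ((yon S).obj Y).obj.obj (op T)) := fun {T} x => by
    let o : (AlgSt.ofSch X).obj := ⟨T, ⟨x⟩⟩
    show secOf (BasedFunctor.comp (AlgSt.quotMap Scheme.fppfPrecoverage G aX) π) o = _
    rw [hπ]
    exact secOf_ofPshMap ((yon S).map f).hom o
  intro Ω _ _ t
  obtain ⟨hs, hi⟩ := horb Ω t
  refine ⟨fun m => ?_, fun a b hab => ?_⟩
  · obtain ⟨x, hx⟩ := hs m.down
    refine ⟨Functor.Fiber.mk (p := (AlgSt.QuotSt Scheme.fppfPrecoverage G aX).p)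
      (a := triv Scheme.fppfPrecoverage aX x) rfl, ?_⟩
    refine (hsec x).trans ?_
    rw [hx]
    rfl
  · have key : ∀ a : (AlgSt.QuotSt Scheme.fppfPrecoverage G aX).p.Fiber (Over.mk t),
        ∃ (x : Over.mk t ⟶ X) (κ : triv Scheme.fppfPrecoverage aX x ≅ a.1),
          κ.hom.base = eqToHom a.2.symm ∧ (⟨x ≫ f⟩ : ((yon S).obj Y).obj.obj (op (Over.mk t))) = AlgSt.fibSec π a := by
      rintro ⟨A, hA⟩
      have e : Over.mk t = A.base := hA.symm
      obtain ⟨s, hsA⟩ := exists_section_of_isAlgClosed A e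
      let h : triv Scheme.fppfPrecoverage aX (s ≫ A.φ) ⟶ A := homOfSection A s _ rfl (eqToHom e) hsA
      obtain ⟨κ, hκ⟩ := exists_iso_of_hom e h rfl
      refine ⟨_, κ, hκ, ?_⟩
      rw [← hsec]
      have hn := secOf_naturality π κ.hom
      change ((yon S).obj Y).obj.map κ.hom.base.op (secOf π A) = _ at hn
      rw [hκ] at hn
      rw [← hn]
      show _ = ((yon S).obj Y).obj.map _ (π.obj A).sec
      simp only [secOf]
      refine (Functor.map_comp_apply _ _ _ _).symm.trans ?_
      erw [← op_comp, eqToHom_trans]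
    obtain ⟨x, κ, hκ, hx⟩ := key a
    obtain ⟨x', κ', hκ', hx'⟩ := key b
    obtain ⟨g, hg⟩ := hi x x' (congrArg ULift.down (hx.trans (hab.trans hx'.symm)))
    let A' := triv Scheme.fppfPrecoverage aX x'
    let h : triv Scheme.fppfPrecoverage aX x ⟶ A' := homOfSection A' (lift g (𝟙 _)) x (by
      show lift g (𝟙 _) ≫ (G ◁ x') ≫ aX.act = x
      rw [← Category.assoc, lift_whisker, Category.id_comp, hg]) (𝟙 _) (lift_snd _ _)
    obtain ⟨ν, hν⟩ := exists_iso_of_hom (A := A') rfl h rfl
    let φ : a.1 ≅ b.1 := κ.symm ≪≫ ν ≪≫ κ'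
    have hinv : κ.inv.base = eqToHom a.2 := by
      have := congrArg AlgSt.QuotObj.Hom.base κ.inv_hom_id
      rw [AlgSt.QuotObj.comp_base, hκ] at this
      rw [← cancel_mono (eqToHom a.2.symm)]
      exact this.trans (by rw [eqToHom_trans, eqToHom_refl]; rfl)
    have hφ : φ.hom.base = eqToHom (a.2.trans b.2.symm) := by
      show κ.inv.base ≫ ν.hom.base ≫ κ'.hom.base = _
      rw [hinv, hν, hκ']
      exact (congrArg (eqToHom a.2 ≫ ·) (eqToHom_trans _ _)).trans (eqToHom_trans _ _)
    haveI h1 : (AlgSt.QuotSt Scheme.fppfPrecoverage G aX).p.IsHomLift (𝟙 (Over.mk t)) φ.hom :=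
      IsHomLift.of_fac' _ _ _ a.2 b.2 (by
        show φ.hom.base = _
        rw [hφ]
        simp)
    haveI h2 : (AlgSt.QuotSt Scheme.fppfPrecoverage G aX).p.IsHomLift (𝟙 (Over.mk t)) φ.inv :=
      IsHomLift.lift_id_inv _ _ φ
    exact ⟨{ hom := ⟨φ.hom, h1⟩, inv := ⟨φ.inv, h2⟩,
             hom_inv_id := Functor.Fiber.hom_ext φ.hom_inv_id, inv_hom_id := Functor.Fiber.hom_ext φ.inv_hom_id }⟩

end QuotStLib
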