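import Groth.Agent.QuotStLib.ToSpace
import Groth.Prelude.Def_StCoarse
import Groth.Prelude.Def_W4bk4git07Quot

/-! Categorical moduli spaces of quotient stacks and categorical quotients. -/

set_option autoImplicit false
set_option linter.all false
set_option backward.isDefEq.respectTransparency false
set_option backward.isDefEq.respectTransparency.types false

noncomputable section

universe u

open CategoryTheory CategoryTheory.Limits MonoidalCategory CartesianMonoidalCategory AlgebraicGeometry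
open Opposite AlgSp AlgSpLib AlgStLib FibLib

namespace QuotStLib

variable {S : Scheme.{u}} {G X : Over S} [GrpObj G] {aX : AlgGrp.Action G X}

/-- Functors out of a quotient stack come from invariant maps. -/
theorem exists_invariant {M : Sp S} (φ : AlgSt.QuotSt Scheme.fppfPrecoverage G aX ⥤ᵇ AlgSt.ofSp M) :
    ∃ ψ : (yon S).obj X ⟶ M, (yon S).map aX.act ≫ ψ = (yon S).map (snd G X) ≫ ψ ∧
      BasedFunctor.comp (AlgSt.quotMap Scheme.fppfPrecoverage G aX) φ = AlgSt.ofSpMap ψ := by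
  let Φ := BasedFunctor.comp (AlgSt.quotMap Scheme.fppfPrecoverage G aX) φ
  let ψ : (yon S).obj X ⟶ M := ObjectProperty.homMk (mapOf Φ)
  refine ⟨ψ, ?_, basedFunctor_ext_sec fun o => (secOf_ofPshMap ψ.hom o).symm⟩
  let T := G ⊗ X
  let o₁ : (AlgSt.ofSch X).obj := ⟨T, ⟨aX.act⟩⟩
  let o₂ : (AlgSt.ofSch X).obj := ⟨T, ⟨snd G X⟩⟩
  obtain ⟨h, hb⟩ : ∃ h : triv Scheme.fppfPrecoverage aX aX.act ⟶ triv Scheme.fppfPrecoverage aX (snd G X),
      h.base = 𝟙 T := by
    let A := triv Scheme.fppfPrecoverage aX (snd G X)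
    refine ⟨homOfSection A (lift (fst G X) (𝟙 T)) aX.act ?_ (𝟙 T) (lift_snd _ _), rfl⟩
    show lift (fst G X) (𝟙 T) ≫ (G ◁ snd G X) ≫ aX.act = aX.act
    rw [← Category.assoc, lift_whisker, Category.id_comp, lift_fst_snd, Category.id_comp]
  have e := secOf_naturality φ h
  change M.obj.map h.base.op (secOf φ (triv Scheme.fppfPrecoverage aX (snd G X))) = _ at e
  have e' : h.base.op = 𝟙 (op T) := congrArg Quiver.Hom.op hb
  rw [e'] at e
  erw [Functor.map_id_apply] at e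
  refine yEq.injective ?_
  rw [yEq_comp, yEq_comp]
  exact e.symm

/-- The descent criterion for a functor from a quotient stack to be universal in a class. -/
theorem isCatModuliIn_iff [Flat G.hom] [LocallyOfFinitePresentation G.hom] (C : ObjectProperty (Sp S)) {M : Sp S}
    (π : AlgSt.QuotSt Scheme.fppfPrecoverage G aX ⥤ᵇ AlgSt.ofSp M) {f : (yon S).obj X ⟶ M}
    (hπ : BasedFunctor.comp (AlgSt.quotMap Scheme.fppfPrecoverage G aX) π = AlgSt.ofSpMap f) :
    AlgSt.IsCatModuliIn C π ↔ C M ∧ ∀ N : Sp S, C N → ∀ ψ : (yon S).obj X ⟶ N,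
      (yon S).map aX.act ≫ ψ = (yon S).map (snd G X) ≫ ψ → ∃! g : M ⟶ N, f ≫ g = ψ := by
  have key : ∀ {N : Sp S} (g : M ⟶ N) (φ : AlgSt.QuotSt Scheme.fppfPrecoverage G aX ⥤ᵇ AlgSt.ofSp N)
      (ψ : (yon S).obj X ⟶ N) (_ : (yon S).map aX.act ≫ ψ = (yon S).map (snd G X) ≫ ψ)
      (_ : BasedFunctor.comp (AlgSt.quotMap Scheme.fppfPrecoverage G aX) φ = AlgSt.ofSpMap ψ),
      Nonempty (BasedFunctor.comp π (AlgSt.ofSpMap g) ≅ φ) ↔ f ≫ g = ψ := by
    intro N g φ ψ hinv hφ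
    have e : BasedFunctor.comp (AlgSt.quotMap Scheme.fppfPrecoverage G aX) (BasedFunctor.comp π (AlgSt.ofSpMap g)) =
        AlgSt.ofSpMap (f ≫ g) := by
      show BasedFunctor.comp (BasedFunctor.comp (AlgSt.quotMap Scheme.fppfPrecoverage G aX) π) (AlgSt.ofSpMap g) = _
      rw [hπ]
      rfl
    constructor
    · rintro ⟨i⟩
      refine ObjectProperty.hom_ext _ (eq_of_iso_ofPshMap ?_)
      exact eqToIso e.symm ≪≫ whiskerLeftIso' (AlgSt.quotMap Scheme.fppfPrecoverage G aX) i ≪≫ eqToIso hφ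
    · intro h
      obtain ⟨φ₀, -, hu⟩ := existsUnique_toSpace (aX := aX) ψ hinv
      exact ⟨eqToIso ((hu _ (e.trans (congrArg AlgSt.ofSpMap h))).trans (hu φ hφ).symm)⟩
  refine ⟨fun ⟨hM, H⟩ => ⟨hM, fun N hN ψ hinv => ?_⟩, fun ⟨hM, H⟩ => ⟨hM, fun N hN φ => ?_⟩⟩
  · obtain ⟨φ, hφ, -⟩ := existsUnique_toSpace (aX := aX) ψ hinv
    obtain ⟨g, hg, hu⟩ := H N hN φ
    exact ⟨g, (key g φ ψ hinv hφ).1 hg, fun g' hg' => hu g' ((key g' φ ψ hinv hφ).2 hg')⟩
  · obtain ⟨ψ, hinv, hφ⟩ := exists_invariant φ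
    obtain ⟨g, hg, hu⟩ := H N hN ψ hinv
    exact ⟨g, (key g φ ψ hinv hφ).2 hg, fun g' hg' => hu g' ((key g' φ ψ hinv hφ).1 hg')⟩

/-- Categorical moduli in schemes are categorical quotients. -/
theorem isCatModuliSch_iff_isCatQuot [Flat G.hom] [LocallyOfFinitePresentation G.hom] {Y : Over S} (f : X ⟶ Y)
    (π : AlgSt.QuotSt Scheme.fppfPrecoverage G aX ⥤ᵇ AlgSt.ofSch Y)
    (hπ : Nonempty (BasedFunctor.comp (AlgSt.quotMap Scheme.fppfPrecoverage G aX) π ≅
      AlgSt.ofSpMap ((yon S).map f))) :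
    AlgSt.IsCatModuliSch π ↔ GIT.IsCatQuot aX f := by
  obtain ⟨ψ, hinv, hψ⟩ := exists_invariant π
  have e : ψ = (yon S).map f :=
    ObjectProperty.hom_ext _ (eq_of_iso_ofPshMap (eqToIso hψ.symm ≪≫ hπ.some))
  subst e
  have hf : aX.act ≫ f = snd G X ≫ f :=
    (yon S).map_injective (by rw [Functor.map_comp, Functor.map_comp]; exact hinv)
  refine (isCatModuliIn_iff _ π hψ).trans ⟨fun ⟨_, H⟩ => ⟨hf, fun Z ζ hζ => ?_⟩, fun ⟨_, H⟩ => ⟨?_, fun N hN ζ hζ => ?_⟩⟩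
  · obtain ⟨g, hg, hu⟩ := H ((yon S).obj Z) (inferInstanceAs (uliftYoneda.{u + 1}.obj Z).IsRepresentable)
      ((yon S).map ζ) (by rw [← Functor.map_comp, ← Functor.map_comp, hζ])
    obtain ⟨χ, rfl⟩ := (yon S).map_surjective g
    refine ⟨χ, (yon S).map_injective (by rw [Functor.map_comp]; exact hg), fun χ' hχ' => ?_⟩
    exact (yon S).map_injective (hu _ (((yon S).map_comp _ _).symm.trans (congrArg (yon S).map hχ')))
  · exact (inferInstanceAs (uliftYoneda.{u + 1}.obj Y).IsRepresentable)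
  · haveI : N.obj.IsRepresentable := hN
    obtain ⟨Z, ⟨i⟩⟩ : ∃ Z, Nonempty ((yon S).obj Z ≅ N) :=
      ⟨N.obj.reprX, ⟨(fullyFaithfulSheafToPresheaf (AlgSp.J S) _).preimageIso (Functor.uliftYonedaReprXIso.{u + 1} N.obj)⟩⟩
    obtain ⟨ζ', hζ'⟩ := (yon S).map_surjective (ζ ≫ i.inv)
    obtain ⟨χ, hχ, hu⟩ := H Z ζ' ((yon S).map_injective (by
      rw [Functor.map_comp, Functor.map_comp, hζ', reassoc_of% hζ]))
    refine ⟨(yon S).map χ ≫ i.hom, ?_, fun g' hg' => ?_⟩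
    · show (yon S).map f ≫ _ = ζ
      rw [← Functor.map_comp_assoc, hχ, hζ', Category.assoc, i.inv_hom_id, Category.comp_id]
    · obtain ⟨χ', hχ'⟩ := (yon S).map_surjective (g' ≫ i.inv)
      rw [← hu χ' ((yon S).map_injective (by rw [Functor.map_comp, hχ', hζ', reassoc_of% hg'])), hχ',
        Category.assoc, i.inv_hom_id, Category.comp_id]

end QuotStLib
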